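import Cfsg.Agent.Lib.Jordan.Basic

/-!
# The centralizer of a model nilpotent matrix
* `mat c`: the commutant in coordinates `c` indexed by `Idx d`
* `det_mat_ne_zero_iff`, `card_centralizer`
-/

set_option autoImplicit false

open Matrix
open scoped Classical

namespace Cfsg.Agent.Jordan

variable {F : Type*} [Field F] {κ : Type} [Fintype κ] [DecidableEq κ] (d : κ → ℕ)

/-- Coordinates of the commutant: the `s`-th entry from the bottom of the image of the generator `k` in block `l`. -/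
abbrev Idx : Type := (k : κ) × (l : κ) × Fin (min (d k) (d l))

/-- The element of the commutant with coordinates `c`. -/
def mat (c : Idx d → F) : Matrix ((k : κ) × Fin (d k)) ((k : κ) × Fin (d k)) F :=
  Matrix.of fun x y => if h : (y.2 : ℕ) ≤ x.2 ∧ d x.1 - 1 - x.2 + y.2 < d y.1 then
    c ⟨y.1, x.1, ⟨d x.1 - 1 - x.2 + y.2, lt_min h.2 (by have := x.2.2; omega)⟩⟩ else 0

theorem mat_apply (c : Idx d → F) (l : κ) (i : Fin (d l)) (k : κ) (j : Fin (d k)) :
    mat d c ⟨l, i⟩ ⟨k, j⟩ = if h : (j : ℕ) ≤ i ∧ d l - 1 - i + j < d k then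
      c ⟨k, l, ⟨d l - 1 - i + j, lt_min h.2 (by have := i.2; omega)⟩⟩ else 0 := rfl

theorem mat_commute (c : Idx d → F) : mat d c * NT F d = NT F d * mat d c := by
  ext ⟨l, i⟩ ⟨k, j⟩
  rw [mul_NT, NT_mul]
  have hi := i.2
  by_cases hc : (j : ℕ) + 1 ≤ i ∧ d l - i + j < d k
  · rw [dif_pos (show (j : ℕ) + 1 < d k by omega), if_pos (show 0 < (i : ℕ) by omega), mat_apply, mat_apply]
    simp only
    rw [dif_pos (by omega), dif_pos (by omega)]
    congr 3
    exact Fin.ext (by simp only; omega)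
  · have h1 : (if h : (j : ℕ) + 1 < d k then mat d c ⟨l, i⟩ ⟨k, ⟨(j : ℕ) + 1, h⟩⟩ else 0) = 0 := by
      split_ifs with h
      · rw [mat_apply, dif_neg]; simp only; omega
      · rfl
    have h2 : (if 0 < (i : ℕ) then mat d c ⟨l, ⟨(i : ℕ) - 1, by omega⟩⟩ ⟨k, j⟩ else 0) = 0 := by
      split_ifs with h
      · rw [mat_apply, dif_neg]; simp only; omega
      · rfl
    rw [h1, h2]

/-- The coordinates of a matrix. -/
def coord (g : Matrix ((k : κ) × Fin (d k)) ((k : κ) × Fin (d k)) F) : Idx d → F :=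
  fun s => g ⟨s.2.1, ⟨d s.2.1 - 1 - s.2.2, by have := s.2.2.2; omega⟩⟩ ⟨s.1, ⟨0, by have := s.2.2.2; omega⟩⟩

theorem coord_mat (c : Idx d → F) : coord d (mat d c) = c := by
  funext ⟨k, l, s⟩
  have hs := s.2
  simp only [coord, mat_apply]
  rw [dif_pos (by omega)]
  congr 3
  exact Fin.ext (by simp only; omega)

theorem mat_coord (g : Matrix ((k : κ) × Fin (d k)) ((k : κ) × Fin (d k)) F) (hg : g * NT F d = NT F d * g) :
    mat d (coord d g) = g := by
  have hstep : ∀ (l k : κ) (i j : ℕ) (hi : i + 1 < d l) (hj : j + 1 < d k),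
      g ⟨l, ⟨i + 1, hi⟩⟩ ⟨k, ⟨j + 1, hj⟩⟩ = g ⟨l, ⟨i, by omega⟩⟩ ⟨k, ⟨j, by omega⟩⟩ := by
    intro l k i j hi hj
    have h := congrFun (congrFun hg ⟨l, ⟨i + 1, hi⟩⟩) ⟨k, ⟨j, by omega⟩⟩
    rw [mul_NT, NT_mul, dif_pos hj, if_pos (show 0 < i + 1 by omega)] at h
    exact h
  have hdiag : ∀ (m : ℕ) (l k : κ) (i : ℕ) (hi : i + m < d l) (hk : m < d k),
      g ⟨l, ⟨i + m, hi⟩⟩ ⟨k, ⟨m, hk⟩⟩ = g ⟨l, ⟨i, by omega⟩⟩ ⟨k, ⟨0, by omega⟩⟩ := by
    intro m
    induction m with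
    | zero => intros; rfl
    | succ m ih =>
      intro l k i hi hk
      rw [← ih l k i (by omega) (by omega)]
      exact hstep l k (i + m) m hi hk
  ext ⟨l, ⟨i, hi⟩⟩ ⟨k, ⟨j, hj⟩⟩
  rw [mat_apply]
  simp only [coord]
  by_cases hji : j ≤ i
  · obtain ⟨i', rfl⟩ : ∃ i', i = i' + j := ⟨i - j, by omega⟩
    rw [hdiag j l k i' hi hj]
    split_ifs with h
    · congr 2
      exact Fin.ext (by simp only; omega)
    · -- the last column of the block
      have hk : d k - 1 + i' + 1 < d l := by omega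
      have h0 := congrFun (congrFun hg ⟨l, ⟨i' + (d k - 1) + 1, by omega⟩⟩) ⟨k, ⟨d k - 1, by omega⟩⟩
      rw [mul_NT, NT_mul, dif_neg (show ¬ (d k - 1 + 1 < d k) by omega), if_pos (show 0 < i' + (d k - 1) + 1 by omega)] at h0
      rw [← hdiag (d k - 1) l k i' (by omega) (by omega)]
      exact h0
  · rw [dif_neg (by omega)]
    -- the entry above the diagonal
    have h : ∀ (i j : ℕ) (hi : i < d l) (hj : j < d k), i < j → g ⟨l, ⟨i, hi⟩⟩ ⟨k, ⟨j, hj⟩⟩ = 0 := by
      intro i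
      induction i with
      | zero =>
        intro j hi hj hij
        obtain ⟨j', rfl⟩ : ∃ j', j = j' + 1 := ⟨j - 1, by omega⟩
        have h := congrFun (congrFun hg ⟨l, ⟨0, hi⟩⟩) ⟨k, ⟨j', by omega⟩⟩
        rw [mul_NT, NT_mul, dif_pos hj, if_neg (show ¬ 0 < 0 by omega)] at h
        exact h
      | succ i ih =>
        intro j hi hj hij
        obtain ⟨j', rfl⟩ : ∃ j', j = j' + 1 := ⟨j - 1, by omega⟩
        rw [hstep l k i j' hi hj]
        exact ih j' (by omega) (by omega) (by omega)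
    exact (h i j hi hj (by omega)).symm

/-- The fibre of `d` over `D`. -/
abbrev Fib (D : ℕ) : Type := {k : κ // d k = D}

/-- The diagonal block of size class `D`. -/
def blockMat (c : Idx d → F) (D : ↥(Finset.univ.image d)) (hd : ∀ k, 1 ≤ d k) :
    Matrix (Fib d (D : ℕ)) (Fib d (D : ℕ)) F :=
  Matrix.of fun l k => c ⟨k.1, l.1, ⟨(D : ℕ) - 1, by
    obtain ⟨x, -, hx⟩ := Finset.mem_image.mp D.2
    have := hd x; have := k.2; have := l.2; omega⟩⟩

theorem det_mat_ne_zero_iff (hd : ∀ k, 1 ≤ d k) (c : Idx d → F) :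
    (mat d c).det ≠ 0 ↔ ∀ D : ↥(Finset.univ.image d), (blockMat d c D hd).det ≠ 0 := by
  let b : ((k : κ) × Fin (d k)) → ℕ ×ₗ ℕᵒᵈ := fun x => toLex ((x.2 : ℕ), OrderDual.toDual (d x.1))
  have htri : Matrix.BlockTriangular (mat d c)ᵀ b := by
    rintro ⟨k, j⟩ ⟨l, i⟩ hlt
    rw [Matrix.transpose_apply, mat_apply, dif_neg]
    intro h
    rcases (Prod.Lex.toLex_lt_toLex.mp hlt) with h1 | ⟨h1, h2⟩
    · simp only at h1; omega
    · simp only at h1 h2
      have h2' : d k < d l := OrderDual.toDual_lt_toDual.mp h2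
      have := i.2
      omega
  rw [← Matrix.det_transpose, htri.det, Finset.prod_ne_zero_iff]
  have key : ∀ (D : ↥(Finset.univ.image d)) (j : ℕ) (hj : j < (D : ℕ)),
      ((mat d c)ᵀ.toSquareBlock b (toLex (j, OrderDual.toDual (D : ℕ)))).det = (blockMat d c D hd).det := by
    intro D j hj
    let e : Fib d (D : ℕ) ≃ {x // b x = toLex (j, OrderDual.toDual (D : ℕ))} :=
      { toFun := fun k => ⟨⟨k.1, ⟨j, by rw [k.2]; exact hj⟩⟩, by simp [b, k.2]⟩
        invFun := fun x => ⟨x.1.1, OrderDual.toDual_inj.mp (congrArg Prod.snd (toLex_inj.mp x.2))⟩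
        left_inv := fun k => rfl
        right_inv := fun x => by
          obtain ⟨⟨k, i⟩, hx⟩ := x
          have h1 : (i : ℕ) = j := congrArg Prod.fst (toLex_inj.mp hx)
          exact Subtype.ext (mk_eq_mk.mpr ⟨rfl, h1.symm⟩) }
    have hmat : blockMat d c D hd = (((mat d c)ᵀ.toSquareBlock b (toLex (j, OrderDual.toDual (D : ℕ)))).submatrix e e)ᵀ := by
      ext l k
      simp only [blockMat, Matrix.of_apply, Matrix.transpose_apply, Matrix.submatrix_apply, Matrix.toSquareBlock_def, e,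
        Equiv.coe_fn_mk, mat_apply]
      have := l.2; have := k.2
      rw [dif_pos (by omega)]
      congr 3
      exact Fin.ext (by simp only; omega)
    rw [hmat, Matrix.det_transpose, Matrix.det_submatrix_equiv_self]
  constructor
  · intro h D
    obtain ⟨k, -, hk⟩ := Finset.mem_image.mp D.2
    have h0 : 0 < (D : ℕ) := by rw [← hk]; exact hd k
    rw [← key D 0 h0]
    exact h _ (Finset.mem_image.mpr ⟨⟨k, ⟨0, by omega⟩⟩, Finset.mem_univ _, by simp [b, hk]⟩)
  · intro h a ha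
    obtain ⟨⟨k, j⟩, -, rfl⟩ := Finset.mem_image.mp ha
    rw [key ⟨d k, Finset.mem_image_of_mem d (Finset.mem_univ k)⟩ j j.2]
    exact h _

/-- Coordinates on the diagonal blocks. -/
def IsDiag (s : Idx d) : Prop := d s.1 = d s.2.1 ∧ (s.2.2 : ℕ) = d s.1 - 1

/-- The diagonal coordinates as pairs of indices. -/
noncomputable def diagEquiv (hd : ∀ k, 1 ≤ d k) :
    {s : Idx d // IsDiag d s} ≃ (D : ↥(Finset.univ.image d)) × Fib d (D : ℕ) × Fib d (D : ℕ) where
  toFun s := ⟨⟨d s.1.1, Finset.mem_image_of_mem d (Finset.mem_univ _)⟩, ⟨s.1.2.1, s.2.1.symm⟩, ⟨s.1.1, rfl⟩⟩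
  invFun x := ⟨⟨x.2.2.1, x.2.1.1, ⟨(x.1 : ℕ) - 1, by
      have := x.2.2.2; have := x.2.1.2; have := hd x.2.2.1; omega⟩⟩, by
      refine ⟨x.2.2.2.trans x.2.1.2.symm, ?_⟩
      show (x.1 : ℕ) - 1 = d x.2.2.1 - 1
      rw [x.2.2.2]⟩
  left_inv := by
    rintro ⟨⟨k, l, s⟩, h1, h2⟩
    apply Subtype.ext
    exact congrArg (fun z => (⟨k, l, z⟩ : Idx d)) (Fin.ext h2.symm)
  right_inv := by
    rintro ⟨⟨D, hD⟩, ⟨l, hl⟩, ⟨k, hk⟩⟩
    simp only at hl hk
    subst hk
    rfl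

theorem card_centralizer [Finite F] (hd : ∀ k, 1 ≤ d k) :
    Nat.card {g : GL ((k : κ) × Fin (d k)) F // (g : Matrix ((k : κ) × Fin (d k)) ((k : κ) × Fin (d k)) F) * NT F d =
      NT F d * (g : Matrix ((k : κ) × Fin (d k)) ((k : κ) × Fin (d k)) F)} =
    Nat.card F ^ Fintype.card {s : Idx d // ¬ IsDiag d s} *
      ∏ D : ↥(Finset.univ.image d), Nat.card (GL (Fin (Fintype.card (Fib d (D : ℕ)))) F) := by
  let e1 : {g : GL ((k : κ) × Fin (d k)) F // (g : Matrix ((k : κ) × Fin (d k)) ((k : κ) × Fin (d k)) F) * NT F d =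
      NT F d * (g : Matrix ((k : κ) × Fin (d k)) ((k : κ) × Fin (d k)) F)} ≃
      {c : Idx d → F // ∀ D : ↥(Finset.univ.image d), (blockMat d c D hd).det ≠ 0} :=
    { toFun := fun g => ⟨coord d (g.1 : Matrix _ _ F), by
        rw [← det_mat_ne_zero_iff, mat_coord d _ g.2]
        exact ((Matrix.isUnit_iff_isUnit_det _).mp g.1.isUnit).ne_zero⟩
      invFun := fun c => ⟨GeneralLinearGroup.mkOfDetNeZero (mat d c.1) ((det_mat_ne_zero_iff d hd c.1).mpr c.2),
        mat_commute d c.1⟩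
      left_inv := fun g => by apply Subtype.ext; apply Units.ext; exact mat_coord d _ g.2
      right_inv := fun c => Subtype.ext (coord_mat d c.1) }
  let e2 : (Idx d → F) ≃ (∀ D : ↥(Finset.univ.image d), Matrix (Fib d (D : ℕ)) (Fib d (D : ℕ)) F) × ({s : Idx d // ¬ IsDiag d s} → F) :=
    (Equiv.piEquivPiSubtypeProd (IsDiag d) fun _ => F).trans
      (Equiv.prodCongr ((Equiv.arrowCongr (diagEquiv d hd) (Equiv.refl F)).trans
        ((Equiv.piCurry fun (D : ↥(Finset.univ.image d)) (_ : Fib d (D : ℕ) × Fib d (D : ℕ)) => F).trans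
          (Equiv.piCongrRight fun D => Equiv.curry _ _ _))) (Equiv.refl _))
  have he2 : ∀ c D, (e2 c).1 D = blockMat d c D hd := fun c D => by
    ext l k
    rfl
  let e3 : {c : Idx d → F // ∀ D : ↥(Finset.univ.image d), (blockMat d c D hd).det ≠ 0} ≃
      {x : (∀ D : ↥(Finset.univ.image d), Matrix (Fib d (D : ℕ)) (Fib d (D : ℕ)) F) × ({s : Idx d // ¬ IsDiag d s} → F) //
        ∀ D, (x.1 D).det ≠ 0} :=
    e2.subtypeEquiv fun c => by simp [he2]
  let e4 : {x : (∀ D : ↥(Finset.univ.image d), Matrix (Fib d (D : ℕ)) (Fib d (D : ℕ)) F) × ({s : Idx d // ¬ IsDiag d s} → F) //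
        ∀ D, (x.1 D).det ≠ 0} ≃ (∀ D : ↥(Finset.univ.image d), GL (Fib d (D : ℕ)) F) × ({s : Idx d // ¬ IsDiag d s} → F) :=
    { toFun := fun x => (fun D => GeneralLinearGroup.mkOfDetNeZero _ (x.2 D), x.1.2)
      invFun := fun y => ⟨(fun D => (y.1 D : Matrix _ _ F), y.2),
        fun D => ((Matrix.isUnit_iff_isUnit_det _).mp (y.1 D).isUnit).ne_zero⟩
      left_inv := fun x => rfl
      right_inv := fun y => Prod.ext (funext fun D => Units.ext rfl) rfl }
  rw [Nat.card_congr ((e1.trans e3).trans e4), Nat.card_prod, Nat.card_pi, mul_comm, Nat.card_fun,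
    Nat.card_eq_fintype_card (α := {s : Idx d // ¬ IsDiag d s})]
  congr 1
  refine Finset.prod_congr rfl fun D _ => ?_
  exact Nat.card_congr (Units.mapEquiv (Matrix.reindexAlgEquiv F F (Fintype.equivFin (Fib d (D : ℕ)))).toMulEquiv).toEquiv

end Cfsg.Agent.Jordan
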