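import Cfsg.Agent.Lib.Jordan.Basic

/-!
# Unipotent classes and partitions
* `card_classes`: the classes with `(g - 1) ^ m = 0` are counted by the partitions with parts at most `m`
-/

set_option autoImplicit false

open Matrix
open scoped Classical

namespace Cfsg.Agent.Jordan

variable {F : Type*} [Field F] {n : ℕ}

theorem card_sigma_partition (μ : Nat.Partition n) :
    Fintype.card ((x : μ.parts) × Fin (x : ℕ)) = n := by
  rw [Fintype.card_sigma]
  simp only [Fintype.card_fin]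
  show (Multiset.map (fun x : μ.parts => (x : ℕ)) Finset.univ.val).sum = n
  rw [Multiset.map_univ_coe]
  exact μ.parts_sum

/-- The nilpotent representative of a partition. -/
noncomputable def repN (F : Type*) [Field F] (μ : Nat.Partition n) : Matrix (Fin n) (Fin n) F :=
  Matrix.reindexAlgEquiv F F (Fintype.equivFinOfCardEq (card_sigma_partition μ)) (NT F fun x : μ.parts => (x : ℕ))

theorem parts_pos' (μ : Nat.Partition n) (x : μ.parts) : 1 ≤ (x : ℕ) := μ.parts_pos Multiset.coe_mem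

theorem le_of_mem' (μ : Nat.Partition n) (x : μ.parts) : (x : ℕ) ≤ n :=
  (Multiset.single_le_sum (fun _ _ => Nat.zero_le _) _ Multiset.coe_mem).trans μ.parts_sum.le

theorem repN_pow_eq_zero_iff (μ : Nat.Partition n) (m : ℕ) :
    repN F μ ^ m = 0 ↔ ∀ a ∈ μ.parts, a ≤ m := by
  rw [repN, ← map_pow, map_eq_zero_iff _ (AlgEquiv.injective _), NT_pow_eq_zero_iff]
  constructor
  · intro h a ha
    exact h (μ.parts.mkToType a ⟨0, Multiset.count_pos.mpr ha⟩)
  · intro h x
    exact h x Multiset.coe_mem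

/-- The unipotent representative of a partition. -/
noncomputable def rep (F : Type*) [Field F] (μ : Nat.Partition n) : GL (Fin n) F :=
  IsUnit.unit (IsNilpotent.isUnit_one_add (r := repN F μ) ⟨n, (repN_pow_eq_zero_iff μ n).mpr fun a ha =>
    (Multiset.single_le_sum (fun _ _ => Nat.zero_le _) _ ha).trans μ.parts_sum.le⟩)

theorem coe_rep_sub (μ : Nat.Partition n) : (rep F μ : Matrix (Fin n) (Fin n) F) - 1 = repN F μ := by
  rw [rep, IsUnit.unit_spec, add_sub_cancel_left]

theorem rank_pow_of_isConj {g h : GL (Fin n) F} (hgh : IsConj g h) (m : ℕ) :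
    (((g : Matrix (Fin n) (Fin n) F) - 1) ^ m).rank = (((h : Matrix (Fin n) (Fin n) F) - 1) ^ m).rank := by
  obtain ⟨c, rfl⟩ := isConj_iff.mp hgh
  have hs : ((c * g * c⁻¹ : GL (Fin n) F) : Matrix (Fin n) (Fin n) F) - 1 =
      (c : Matrix (Fin n) (Fin n) F) * ((g : Matrix (Fin n) (Fin n) F) - 1) * ((c⁻¹ : GL (Fin n) F) : Matrix (Fin n) (Fin n) F) := by
    rw [mul_sub, sub_mul, mul_one, Units.mul_inv]; rfl
  have hd : ∀ u : GL (Fin n) F, IsUnit ((u : Matrix (Fin n) (Fin n) F).det) := fun u =>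
    (Matrix.isUnit_iff_isUnit_det _).mp u.isUnit
  rw [hs, Units.conj_pow, Matrix.rank_mul_eq_left_of_isUnit_det _ _ (hd _), Matrix.rank_mul_eq_right_of_isUnit_det _ _ (hd _)]

theorem exists_equiv_of_map_eq {κ κ' : Type*} [Fintype κ] [Fintype κ'] (d : κ → ℕ) (d' : κ' → ℕ)
    (h : Finset.univ.val.map d = Finset.univ.val.map d') : ∃ σ : κ ≃ κ', ∀ k, d' (σ k) = d k := by
  classical
  have hc : ∀ a, Fintype.card {k // d k = a} = Fintype.card {k // d' k = a} := by
    intro a
    have h1 := congrArg (Multiset.count a) h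
    rw [Multiset.count_map, Multiset.count_map] at h1
    simp only [Fintype.card_subtype, eq_comm (b := a)]
    exact h1
  exact ⟨Equiv.ofFiberEquiv fun a => Fintype.equivOfCardEq (hc a),
    fun k => Equiv.ofFiberEquiv_map (fun a => Fintype.equivOfCardEq (hc a)) k⟩

theorem reindex_NT_congr {κ κ' : Type*} [Fintype κ] [DecidableEq κ] [Fintype κ'] [DecidableEq κ'] (d : κ → ℕ)
    (d' : κ' → ℕ) (σ : κ ≃ κ') (hσ : ∀ k, d' (σ k) = d k) :
    ∃ E : ((k : κ) × Fin (d k)) ≃ ((k : κ') × Fin (d' k)), ∀ x y, NT F d' (E x) (E y) = NT F d x y := by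
  refine ⟨Equiv.sigmaCongr σ fun k => finCongr (hσ k).symm, ?_⟩
  rintro ⟨l, i⟩ ⟨k, j⟩
  simp [NT_apply, Equiv.sigmaCongr, Equiv.sigmaCongrRight, Equiv.sigmaCongrLeft]

/-- A unipotent element is conjugate to the representative of its type. -/
theorem exists_isConj_rep (g : GL (Fin n) F) (hg : IsNilpotent ((g : Matrix (Fin n) (Fin n) F) - 1)) :
    ∃ μ : Nat.Partition n, IsConj (rep F μ) g := by
  classical
  obtain ⟨t, d, e, P, hd, hP⟩ := exists_type _ hg
  have hsum : (Finset.univ.val.map d).sum = n := by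
    have := Fintype.card_congr e
    simp only [Fintype.card_sigma, Fintype.card_fin] at this
    exact this
  let μ : Nat.Partition n := ⟨Finset.univ.val.map d,
    fun {a} ha => by obtain ⟨k, -, rfl⟩ := Multiset.mem_map.mp ha; exact hd k, hsum⟩
  obtain ⟨σ, hσ⟩ := exists_equiv_of_map_eq (fun x : μ.parts => (x : ℕ)) d (Multiset.map_univ_coe μ.parts)
  obtain ⟨E, hE⟩ := reindex_NT_congr (F := F) (fun x : μ.parts => (x : ℕ)) d σ hσ
  let e' := Fintype.equivFinOfCardEq (card_sigma_partition μ)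
  let π : Equiv.Perm (Fin n) := e'.symm.trans (E.trans e)
  have hrep : repN F μ = (Matrix.reindex e e (NT F d)).submatrix π π := by
    ext a b
    simp only [repN, π, e', Matrix.coe_reindexAlgEquiv, Matrix.reindex_apply, Matrix.submatrix_apply,
      Equiv.trans_apply, Equiv.symm_apply_apply, hE]
  let Q : Matrix (Fin n) (Fin n) F := (P : Matrix (Fin n) (Fin n) F).submatrix id π
  have hQ : ((g : Matrix (Fin n) (Fin n) F) - 1) * Q = Q * repN F μ := by
    rw [hrep]
    show ((g : Matrix (Fin n) (Fin n) F) - 1) * (P : Matrix (Fin n) (Fin n) F).submatrix id π = _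
    rw [Matrix.submatrix_mul_equiv, ← hP, Matrix.submatrix_mul _ _ _ _ _ Function.bijective_id, Matrix.submatrix_id_id]
  have hdet : Q.det ≠ 0 := by
    rw [show Q.det = _ from Matrix.det_permute' π _]
    exact mul_ne_zero (by rcases Int.units_eq_one_or (Equiv.Perm.sign π) with h | h <;> simp [h]) ((Matrix.isUnit_iff_isUnit_det _).mp P.isUnit).ne_zero
  refine ⟨μ, isConj_iff.mpr ⟨GeneralLinearGroup.mkOfDetNeZero Q hdet, ?_⟩⟩
  rw [mul_inv_eq_iff_eq_mul]
  apply Units.ext
  show Q * (rep F μ : Matrix (Fin n) (Fin n) F) = (g : Matrix (Fin n) (Fin n) F) * Q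
  have h2 : (rep F μ : Matrix (Fin n) (Fin n) F) = 1 + repN F μ := by rw [← coe_rep_sub]; abel
  rw [h2, mul_add, mul_one, ← hQ, sub_mul, one_mul]
  abel

theorem rep_injective {μ ν : Nat.Partition n} (h : IsConj (rep F μ) (rep F ν)) : μ = ν := by
  classical
  have hr : ∀ m, (NT F (fun x : μ.parts => (x : ℕ)) ^ m).rank = (NT F (fun x : ν.parts => (x : ℕ)) ^ m).rank := by
    intro m
    have h' := rank_pow_of_isConj h m
    rw [coe_rep_sub, coe_rep_sub, repN, repN, ← map_pow, ← map_pow, Matrix.coe_reindexAlgEquiv,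
      Matrix.rank_reindex, Matrix.coe_reindexAlgEquiv, Matrix.rank_reindex] at h'
    exact h'
  have := parts_eq_of_rank (F := F) _ _ (parts_pos' μ) (parts_pos' ν) hr
  exact Nat.Partition.ext ((Multiset.map_univ_coe μ.parts).symm.trans (this.trans (Multiset.map_univ_coe ν.parts)))

theorem card_classes (m : ℕ) :
    Nat.card {C : ConjClasses (GL (Fin n) F) //
      ∃ g : GL (Fin n) F, ConjClasses.mk g = C ∧ ((g : Matrix (Fin n) (Fin n) F) - 1) ^ m = 0} =
      (Finset.univ.filter fun μ : Nat.Partition n => ∀ a ∈ μ.parts, a ≤ m).card := by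
  classical
  rw [← Nat.card_eq_finsetCard]
  symm
  refine Nat.card_eq_of_bijective (fun μ => ⟨ConjClasses.mk (rep F μ.1), rep F μ.1, rfl, ?_⟩) ⟨?_, ?_⟩
  · rw [coe_rep_sub, repN_pow_eq_zero_iff]
    exact (Finset.mem_filter.mp μ.2).2
  · intro μ ν h
    exact Subtype.ext (rep_injective (ConjClasses.mk_eq_mk_iff_isConj.mp (congrArg Subtype.val h)))
  · rintro ⟨C, g, rfl, hg⟩
    obtain ⟨μ, hμ⟩ := exists_isConj_rep g ⟨m, hg⟩
    refine ⟨⟨μ, Finset.mem_filter.mpr ⟨Finset.mem_univ _, ?_⟩⟩, Subtype.ext (ConjClasses.mk_eq_mk_iff_isConj.mpr hμ)⟩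
    obtain ⟨c, hc⟩ := isConj_iff.mp hμ
    have hs : (g : Matrix (Fin n) (Fin n) F) - 1 = (c : Matrix (Fin n) (Fin n) F) *
        ((rep F μ : Matrix (Fin n) (Fin n) F) - 1) * ((c⁻¹ : GL (Fin n) F) : Matrix (Fin n) (Fin n) F) := by
      rw [mul_sub, sub_mul, mul_one, Units.mul_inv, ← hc]; rfl
    rw [hs, Units.conj_pow, coe_rep_sub, Units.mul_left_eq_zero, Units.mul_right_eq_zero, repN_pow_eq_zero_iff] at hg
    exact hg

end Cfsg.Agent.Jordan
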