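import Mathlib
import Cfsg.Prelude.Def_JordanBlocks
import Cfsg.Agent.EqLemmas

/-!
# Nilpotent matrices of given Jordan type
* `NT d`: the model nilpotent matrix on `(k : κ) × Fin (d k)`
* `NT_pow_apply`, `rank_NT_pow`
* `exists_type`: every nilpotent matrix is similar to a model
* `parts_eq_of_rank`: the type is determined by the ranks of the powers
-/

set_option autoImplicit false

open Matrix

namespace Cfsg.Agent.Jordan

variable {F : Type*} [Field F] {κ : Type*} [Fintype κ] [DecidableEq κ]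

/-- The model nilpotent matrix of type `d`. -/
def NT (F : Type*) [Field F] (d : κ → ℕ) : Matrix ((k : κ) × Fin (d k)) ((k : κ) × Fin (d k)) F :=
  Matrix.of fun x y => if x.1 = y.1 ∧ (x.2 : ℕ) = (y.2 : ℕ) + 1 then 1 else 0

theorem NT_apply (d : κ → ℕ) (x y : (k : κ) × Fin (d k)) :
    NT F d x y = if x.1 = y.1 ∧ (x.2 : ℕ) = (y.2 : ℕ) + 1 then 1 else 0 := rfl

omit [Fintype κ] in
theorem mk_eq_mk {d : κ → ℕ} {k l : κ} {i : Fin (d k)} {j : Fin (d l)} :
    (⟨k, i⟩ : (k : κ) × Fin (d k)) = ⟨l, j⟩ ↔ k = l ∧ (i : ℕ) = j := by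
  constructor
  · intro h; cases h; exact ⟨rfl, rfl⟩
  · rintro ⟨rfl, h⟩; rw [Fin.ext h]

/-- Right multiplication by the model shifts columns. -/
theorem mul_NT {μ : Type*} (d : κ → ℕ) (g : Matrix μ ((k : κ) × Fin (d k)) F) (a : μ) (k : κ) (j : Fin (d k)) :
    (g * NT F d) a ⟨k, j⟩ = if h : (j : ℕ) + 1 < d k then g a ⟨k, ⟨(j : ℕ) + 1, h⟩⟩ else 0 := by
  rw [Matrix.mul_apply]
  by_cases h : (j : ℕ) + 1 < d k
  · rw [dif_pos h, Finset.sum_eq_single ⟨k, ⟨(j : ℕ) + 1, h⟩⟩]
    · simp [NT_apply]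
    · rintro ⟨l, i⟩ _ hne
      rw [NT_apply, if_neg, mul_zero]
      rintro ⟨h1, h2⟩
      exact hne (mk_eq_mk.mpr ⟨h1, h2⟩)
    · simp
  · rw [dif_neg h]
    refine Finset.sum_eq_zero ?_
    rintro ⟨l, i⟩ _
    rw [NT_apply, if_neg, mul_zero]
    rintro ⟨h1, h2⟩
    simp only at h1 h2
    subst h1
    have := i.2
    omega

/-- Left multiplication by the model shifts rows. -/
theorem NT_mul {μ : Type*} (d : κ → ℕ) (g : Matrix ((k : κ) × Fin (d k)) μ F) (l : κ) (i : Fin (d l)) (b : μ) :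
    (NT F d * g) ⟨l, i⟩ b = if 0 < (i : ℕ) then g ⟨l, ⟨(i : ℕ) - 1, by omega⟩⟩ b else 0 := by
  rw [Matrix.mul_apply]
  by_cases h : 0 < (i : ℕ)
  · rw [if_pos h, Finset.sum_eq_single ⟨l, ⟨(i : ℕ) - 1, by omega⟩⟩]
    · rw [NT_apply, if_pos ⟨rfl, by simp only; omega⟩, one_mul]
    · rintro ⟨k, j⟩ _ hne
      rw [NT_apply, if_neg, zero_mul]
      rintro ⟨h1, h2⟩
      simp only at h1 h2
      exact hne (mk_eq_mk.mpr ⟨h1.symm, by simp only; omega⟩)
    · simp
  · rw [if_neg h]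
    refine Finset.sum_eq_zero ?_
    rintro ⟨k, j⟩ _
    rw [NT_apply, if_neg, zero_mul]
    rintro ⟨-, h2⟩
    simp only at h2
    omega

theorem NT_pow_apply (d : κ → ℕ) (m : ℕ) : ∀ x y : (k : κ) × Fin (d k),
    (NT F d ^ m) x y = if x.1 = y.1 ∧ (x.2 : ℕ) = (y.2 : ℕ) + m then 1 else 0 := by
  induction m with
  | zero =>
    rintro ⟨l, i⟩ ⟨k, j⟩
    simp only [pow_zero, Matrix.one_apply, add_zero]
    exact if_congr mk_eq_mk rfl rfl
  | succ m ih =>
    rintro ⟨l, i⟩ ⟨k, j⟩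
    rw [pow_succ, mul_NT]
    by_cases h : (j : ℕ) + 1 < d k
    · rw [dif_pos h, ih]
      simp only [Nat.add_right_comm _ 1 m, ← add_assoc]
    · rw [dif_neg h, if_neg]
      rintro ⟨h1, h2⟩
      simp only at h1 h2
      subst h1
      have := i.2
      omega

theorem NT_pow_eq_zero_iff (d : κ → ℕ) (m : ℕ) : NT F d ^ m = 0 ↔ ∀ k, d k ≤ m := by
  constructor
  · intro h k
    by_contra hk
    have h' := congrFun (congrFun h ⟨k, ⟨m, by omega⟩⟩) ⟨k, ⟨0, by omega⟩⟩
    rw [NT_pow_apply, if_pos ⟨rfl, by simp⟩] at h'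
    exact one_ne_zero h'
  · intro h
    ext ⟨l, i⟩ ⟨k, j⟩
    rw [NT_pow_apply, if_neg, Matrix.zero_apply]
    rintro ⟨h1, h2⟩
    simp only at h1 h2
    subst h1
    have := i.2; have := h l
    omega

theorem rank_NT_pow (d : κ → ℕ) (m : ℕ) : (NT F d ^ m).rank = ∑ k, (d k - m) := by
  classical
  let f : (k : κ) × Fin (d k - m) → (k : κ) × Fin (d k) := fun x => ⟨x.1, ⟨(x.2 : ℕ) + m, by have := x.2.2; omega⟩⟩
  have hf : Function.Injective f := by
    rintro ⟨k, i⟩ ⟨l, j⟩ h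
    obtain ⟨rfl, h2⟩ := mk_eq_mk.mp h
    exact congrArg (Sigma.mk k) (Fin.ext (by simpa using h2))
  have hcol : ∀ (k : κ) (i : Fin (d k - m)),
      (NT F d ^ m).col ⟨k, ⟨(i : ℕ), by omega⟩⟩ = Pi.basisFun F _ (f ⟨k, i⟩) := by
    intro k i
    funext x
    obtain ⟨l, j⟩ := x
    rw [Matrix.col_apply, NT_pow_apply, Pi.basisFun_apply, Pi.single_apply]
    simp only [f, mk_eq_mk]
  have hspan : Submodule.span F (Set.range (NT F d ^ m).col) =
      Submodule.span F (Set.range ((Pi.basisFun F ((k : κ) × Fin (d k))) ∘ f)) := by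
    apply le_antisymm
    · rw [Submodule.span_le]
      rintro _ ⟨⟨k, j⟩, rfl⟩
      by_cases h : (j : ℕ) < d k - m
      · exact Submodule.subset_span ⟨⟨k, ⟨j, h⟩⟩, (hcol k ⟨j, h⟩).symm⟩
      · have h0 : (NT F d ^ m).col ⟨k, j⟩ = 0 := by
          funext x
          obtain ⟨l, i⟩ := x
          rw [Matrix.col_apply, NT_pow_apply, if_neg, Pi.zero_apply]
          rintro ⟨h1, h2⟩
          simp only at h1 h2
          subst h1
          have := i.2
          omega
        rw [h0]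
        exact Submodule.zero_mem _
    · rw [Submodule.span_le]
      rintro _ ⟨⟨k, i⟩, rfl⟩
      exact Submodule.subset_span ⟨⟨k, ⟨(i : ℕ), lt_of_lt_of_le i.2 (Nat.sub_le _ _)⟩⟩, hcol k i⟩
  rw [Matrix.rank_eq_finrank_span_cols, hspan,
    finrank_span_eq_card ((Pi.basisFun F _).linearIndependent.comp f hf)]
  simp

/-- The truncated sums determine the positive entries. -/
theorem count_eq_of_sums (s s' : Multiset ℕ) (h : ∀ j, (s.map (fun a => a - j)).sum = (s'.map (fun a => a - j)).sum)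
    (a : ℕ) (ha : 1 ≤ a) : s.count a = s'.count a := by
  have key : ∀ t : Multiset ℕ, t.count a + 2 * (t.map (fun x => x - a)).sum =
      (t.map (fun x => x - (a - 1))).sum + (t.map (fun x => x - (a + 1))).sum := by
    intro t
    induction t using Multiset.induction with
    | empty => simp
    | cons x t ih =>
      simp only [Multiset.count_cons, Multiset.map_cons, Multiset.sum_cons]
      split_ifs with hx <;> omega
  have h1 := key s
  have h2 := key s'
  rw [h, h (a - 1), h (a + 1)] at h1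
  omega

theorem parts_eq_of_rank {κ' : Type*} [Fintype κ'] [DecidableEq κ'] (d : κ → ℕ) (d' : κ' → ℕ)
    (hd : ∀ k, 1 ≤ d k) (hd' : ∀ k, 1 ≤ d' k) (h : ∀ m, (NT F d ^ m).rank = (NT F d' ^ m).rank) :
    (Finset.univ.val.map d) = (Finset.univ.val.map d') := by
  classical
  ext a
  rcases Nat.eq_zero_or_pos a with rfl | ha
  · rw [Multiset.count_eq_zero.mpr, Multiset.count_eq_zero.mpr]
    · intro hm; obtain ⟨k, -, hk⟩ := Multiset.mem_map.mp hm; have := hd' k; omega
    · intro hm; obtain ⟨k, -, hk⟩ := Multiset.mem_map.mp hm; have := hd k; omega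
  refine count_eq_of_sums _ _ (fun j => ?_) a ha
  have h1 := h j
  rw [rank_NT_pow, rank_NT_pow] at h1
  rw [Multiset.map_map, Multiset.map_map]
  exact h1

theorem exists_basis_chain (V : Type*) [AddCommGroup V] [Module F V] [FiniteDimensional F V]
    (f : Module.End F V) (hf : IsNilpotent f) :
    ∃ (t : ℕ) (d : Fin t → ℕ) (b : Module.Basis ((k : Fin t) × Fin (d k)) F V), (∀ k, 1 ≤ d k) ∧
      ∀ (k : Fin t) (j : Fin (d k)), f (b ⟨k, j⟩) = if h : (j : ℕ) + 1 < d k then b ⟨k, ⟨(j : ℕ) + 1, h⟩⟩ else 0 := by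
  classical
  obtain ⟨N, hN⟩ := hf
  obtain ⟨ι, hι, p, hp, e, ⟨E⟩⟩ := Module.equiv_directSum_of_isTorsion
    (R := Polynomial F) (M := Module.AEval' f) (Module.AEval.isTorsion_of_finiteDimensional F V f)
  let b0 : ∀ i, Module.Basis (Fin (p i ^ e i).natDegree) F (Polynomial F ⧸ Polynomial F ∙ p i ^ e i) := fun i =>
    (AdjoinRoot.powerBasis (pow_ne_zero (e i) (hp i).ne_zero)).basis
  let EF : V ≃ₗ[F] (DirectSum ι fun i => Polynomial F ⧸ Polynomial F ∙ p i ^ e i) :=
    (Module.AEval'.of f).trans (E.restrictScalars F)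
  let B : Module.Basis ((i : ι) × Fin (p i ^ e i).natDegree) F V := (DFinsupp.basis b0).map EF.symm
  have hB : ∀ i j, EF (B ⟨i, j⟩) = DirectSum.of (fun i => Polynomial F ⧸ Polynomial F ∙ p i ^ e i) i (b0 i j) := by
    intro i j
    simp only [B, Module.Basis.map_apply, LinearEquiv.apply_symm_apply]
    refine DFinsupp.ext fun i' => ?_
    rcases eq_or_ne i' i with rfl | hne
    · simp [DFinsupp.basis, DirectSum.of, DFinsupp.singleAddHom]
    · simp [DFinsupp.basis, DirectSum.of, DFinsupp.singleAddHom, hne.symm]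
  have hfX : ∀ v, EF (f v) = (Polynomial.X : Polynomial F) • EF v := by
    intro v
    show E (Module.AEval'.of f (f v)) = Polynomial.X • E (Module.AEval'.of f v)
    rw [← map_smul, Module.AEval'.X_smul_of]
  -- every generator is a power of `X`
  have hk : ∀ i, ∀ m : ℕ, (p i ^ e i).natDegree = m →
      Associated (p i ^ e i) ((Polynomial.X : Polynomial F) ^ m) := by
    intro i m hm
    have hker : (Polynomial.X : Polynomial F) ^ N • (Submodule.Quotient.mk 1 : Polynomial F ⧸ Polynomial F ∙ p i ^ e i) = 0 := by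
      obtain ⟨v, hv⟩ := EF.surjective (DirectSum.of (fun i => Polynomial F ⧸ Polynomial F ∙ p i ^ e i) i (Submodule.Quotient.mk 1))
      have hpow : ∀ n, EF ((f ^ n) v) = (Polynomial.X : Polynomial F) ^ n • EF v := by
        intro n
        induction n with
        | zero => simp
        | succ n ih => rw [pow_succ', Module.End.mul_apply, hfX, ih, smul_smul, ← pow_succ']
      have h := hpow N
      rw [hN, LinearMap.zero_apply, map_zero, hv] at h
      have h' := congrArg (fun z : DirectSum ι fun i => Polynomial F ⧸ Polynomial F ∙ p i ^ e i => z i) h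
      simp only [DirectSum.smul_apply, DirectSum.zero_apply, DirectSum.of_eq_same] at h'
      exact h'.symm
    rw [← Submodule.Quotient.mk_smul, Submodule.Quotient.mk_eq_zero, smul_eq_mul, mul_one, Submodule.mem_span_singleton] at hker
    obtain ⟨a, ha⟩ := hker
    obtain ⟨k, -, hk⟩ := (dvd_prime_pow (Polynomial.prime_X (R := F)) N).mp
      ⟨a, by rw [← ha, smul_eq_mul, mul_comm]⟩
    have hdeg := Polynomial.natDegree_eq_of_degree_eq (Polynomial.degree_eq_degree_of_associated hk)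
    rw [Polynomial.natDegree_X_pow, hm] at hdeg
    rw [hdeg]; exact hk
  have hstep : ∀ i (j : Fin (p i ^ e i).natDegree),
      (Polynomial.X : Polynomial F) • b0 i j = if h : (j : ℕ) + 1 < (p i ^ e i).natDegree then b0 i ⟨(j : ℕ) + 1, h⟩ else 0 := by
    intro i j
    have hgen : ∀ l : Fin (p i ^ e i).natDegree, (b0 i l : AdjoinRoot (p i ^ e i)) = AdjoinRoot.root (p i ^ e i) ^ (l : ℕ) :=
      fun l => (AdjoinRoot.powerBasis (pow_ne_zero (e i) (hp i).ne_zero)).basis_eq_pow l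
    have hX : (Polynomial.X : Polynomial F) • b0 i j = (AdjoinRoot.root (p i ^ e i) ^ ((j : ℕ) + 1) : AdjoinRoot (p i ^ e i)) := by
      rw [pow_succ', ← hgen]
      rfl
    rw [hX]
    split_ifs with h
    · exact (hgen ⟨(j : ℕ) + 1, h⟩).symm
    · rw [show (j : ℕ) + 1 = (p i ^ e i).natDegree by omega, ← AdjoinRoot.mk_X, ← map_pow]
      exact AdjoinRoot.mk_eq_zero.mpr (hk i _ rfl).dvd
  let S := {i : ι // 1 ≤ (p i ^ e i).natDegree}
  let eS := (Fintype.equivFin S).symm
  let d : Fin (Fintype.card S) → ℕ := fun k => (p (eS k).1 ^ e (eS k).1).natDegree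
  let E1 : (s : S) × Fin (p s.1 ^ e s.1).natDegree ≃ (i : ι) × Fin (p i ^ e i).natDegree :=
    Equiv.sigmaSubtypeEquivOfSubset (fun i : ι => Fin (p i ^ e i).natDegree) (fun i => 1 ≤ (p i ^ e i).natDegree)
      (fun i j => by have := j.2; omega)
  let E2 : ((k : Fin (Fintype.card S)) × Fin (d k)) ≃ (i : ι) × Fin (p i ^ e i).natDegree :=
    (Equiv.sigmaCongrLeft (β := fun s : S => Fin (p s.1 ^ e s.1).natDegree) eS).trans E1
  have hE2 : ∀ k (j : Fin (d k)), E2 ⟨k, j⟩ = ⟨(eS k).1, j⟩ := fun k j => rfl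
  refine ⟨Fintype.card S, d, B.reindex E2.symm, fun k => (eS k).2, fun k j => ?_⟩
  simp only [Module.Basis.reindex_apply, Equiv.symm_symm, hE2]
  apply EF.injective
  rw [hfX, hB, ← DirectSum.lof_eq_of (Polynomial F), ← map_smul, hstep]
  split_ifs with h
  · rw [hB]; rfl
  · rw [map_zero, map_zero]

/-- Every nilpotent matrix is similar to a model. -/
theorem exists_type {n : ℕ} (N : Matrix (Fin n) (Fin n) F) (hN : IsNilpotent N) :
    ∃ (t : ℕ) (d : Fin t → ℕ) (e : ((k : Fin t) × Fin (d k)) ≃ Fin n) (P : GL (Fin n) F), (∀ k, 1 ≤ d k) ∧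
      N * (P : Matrix (Fin n) (Fin n) F) = (P : Matrix (Fin n) (Fin n) F) * Matrix.reindex e e (NT F d) := by
  classical
  obtain ⟨M, hM⟩ := hN
  obtain ⟨t, d, b, hd, hb⟩ := exists_basis_chain (Fin n → F) (Matrix.toLin' N)
    ⟨M, by rw [← Matrix.toLin'_pow, hM, map_zero]⟩
  let e := b.indexEquiv (Pi.basisFun F (Fin n))
  let b' := b.reindex e
  let P := (Pi.basisFun F (Fin n)).toMatrix b'
  haveI := (Pi.basisFun F (Fin n)).invertibleToMatrix b'
  refine ⟨t, d, e, unitOfInvertible P, hd, ?_⟩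
  show N * P = P * _
  ext a y
  obtain ⟨⟨k, j⟩, rfl⟩ := e.surjective y
  have hP : ∀ a x, P a (e x) = b x a := fun a x => by simp [P, b', Module.Basis.toMatrix_apply]
  have hL : (N * P) a (e ⟨k, j⟩) = (Matrix.toLin' N (b ⟨k, j⟩)) a := by
    simp [Matrix.mul_apply, Matrix.mulVec, dotProduct, hP]
  rw [hL, hb]
  have hR : (P * Matrix.reindex e e (NT F d)) a (e ⟨k, j⟩) = ((Matrix.of fun a x => b x a) * NT F d) a ⟨k, j⟩ := by
    rw [Matrix.mul_apply, Matrix.mul_apply, ← e.sum_comp]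
    simp [hP]
  rw [hR, mul_NT]
  split_ifs <;> simp

end Cfsg.Agent.Jordan
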